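import Mathlib

/-!
# Simplicity criterion for base changes of semisimple algebras; matrix algebras over separably closed fields
-/

namespace Groth.Agent.CSADescent

universe u v w

/-- A two-sided ideal of a semisimple ring is generated by a central idempotent. -/
theorem exists_central_idempotent {A : Type*} [Ring A] [IsSemisimpleRing A] (J : TwoSidedIdeal A) :
    ∃ f ∈ J, (∀ a ∈ J, a * f = a) ∧ ∀ b, f * b = b * f := by
  obtain ⟨f, hf, hJ⟩ := IsSemisimpleRing.ideal_eq_span_idempotent J.asIdeal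
  have hfJ : f ∈ J := by
    have : f ∈ J.asIdeal := hJ ▸ Ideal.mem_span_singleton_self f
    simpa using this
  have hright : ∀ a ∈ J, a * f = a := fun a ha => by
    have : a ∈ Ideal.span {f} := hJ ▸ (by simpa using ha : a ∈ J.asIdeal)
    obtain ⟨c, rfl⟩ := Ideal.mem_span_singleton'.1 this
    rw [mul_assoc, hf.eq]
  have hleft : ∀ a ∈ J, f * a = a := fun a ha => by
    have h0 : ∀ z ∈ J, z * (a - f * a) = 0 := fun z hz => by rw [mul_sub, ← mul_assoc, hright z hz, sub_self]
    obtain ⟨g, hg, hspan⟩ := IsSemisimpleRing.ideal_eq_span_idempotent (Ideal.span {a - f * a})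
    have hxJ : a - f * a ∈ J := J.sub_mem ha (J.mul_mem_left _ _ ha)
    have hgx : g ∈ Ideal.span {a - f * a} := hspan ▸ Ideal.mem_span_singleton_self g
    obtain ⟨c, hc⟩ := Ideal.mem_span_singleton'.1 hgx
    have hg0 : g = 0 := by
      rw [← hg.eq]
      nth_rw 2 [← hc]
      rw [← mul_assoc]
      exact h0 _ (J.mul_mem_right _ _ (hc ▸ J.mul_mem_left _ _ hxJ))
    have hxg : a - f * a ∈ Ideal.span {g} := hspan ▸ Ideal.mem_span_singleton_self _
    rw [hg0, Ideal.span_singleton_eq_bot.2 rfl, Ideal.mem_bot, sub_eq_zero] at hxg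
    exact hxg.symm
  refine ⟨f, hfJ, hright, fun b => ?_⟩
  rw [← hright (f * b) (J.mul_mem_right _ _ hfJ), mul_assoc, hleft (b * f) (J.mul_mem_left _ _ hfJ)]

/-- A central algebra spanned by the image of a semisimple algebra is simple. -/
theorem isSimpleRing_of_central {k : Type u} [Field k] {A : Type v} [Ring A] [Algebra k A] [IsSemisimpleRing A]
    {L : Type w} [Field L] {C : Type*} [Ring C] [Nontrivial C] [Algebra L C] [Algebra.IsCentral L C] [Algebra k C]
    (η : A →ₐ[k] C) (hspan : Submodule.span L (Set.range η) = ⊤) : IsSimpleRing C := by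
  classical
  refine IsSimpleRing.of_eq_bot_or_eq_top fun I => or_iff_not_imp_left.2 fun hI => ?_
  have hex : ∃ n : ℕ, ∃ (l : Fin n → L) (a : Fin n → A), (∑ i, l i • η (a i)) ∈ I ∧ (∑ i, l i • η (a i)) ≠ 0 := by
    obtain ⟨t, ht, ht0⟩ : ∃ t ∈ I, t ≠ 0 := by
      by_contra hcon
      push Not at hcon
      refine hI (SetLike.ext fun y => ?_)
      rw [TwoSidedIdeal.mem_bot]
      exact ⟨hcon y, fun e => e ▸ I.zero_mem⟩
    obtain ⟨n, l, g, rfl⟩ := Submodule.mem_span_set'.1 (hspan ▸ trivial : t ∈ Submodule.span L (Set.range η))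
    choose a ha using fun i => (g i).2
    exact ⟨n, l, a, by simpa [ha] using ht, by simpa [ha] using ht0⟩
  obtain ⟨l, a, hmem, hne⟩ := Nat.find_spec hex
  have hmin : ∀ n < Nat.find hex, ∀ (l : Fin n → L) (a : Fin n → A),
      (∑ i, l i • η (a i)) ∈ I → (∑ i, l i • η (a i)) = 0 := fun n hn l a h =>
    by_contra fun h' => Nat.find_min hex hn ⟨l, a, h, h'⟩
  rcases hm : Nat.find hex with _ | m
  · haveI : IsEmpty (Fin (Nat.find hex)) := hm ▸ Fin.isEmpty
    exact absurd (Fintype.sum_empty _) hne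
  revert l a
  rw [hm]
  intro l a hmem hne
  have hsm : ∀ (c : L) x, x ∈ I → c • x ∈ I := fun c x hx => by
    rw [Algebra.smul_def]; exact I.mul_mem_left _ _ hx
  let J : TwoSidedIdeal A := TwoSidedIdeal.mk' {x | ∃ b : Fin (m + 1) → A, b 0 = x ∧ (∑ i, l i • η (b i)) ∈ I}
    ⟨fun _ => 0, rfl, by simp⟩
    (fun {x y} ⟨b, hb, hb'⟩ ⟨b', hc, hc'⟩ => ⟨b + b', by simp [hb, hc], by
      simp only [Pi.add_apply, map_add, smul_add, Finset.sum_add_distrib]; exact I.add_mem hb' hc'⟩)
    (fun {x} ⟨b, hb, hb'⟩ => ⟨-b, by simp [hb], by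
      simp only [Pi.neg_apply, map_neg, smul_neg, Finset.sum_neg_distrib]; exact I.neg_mem hb'⟩)
    (fun {x y} ⟨b, hb, hb'⟩ => ⟨fun i => x * b i, by simp [hb], by
      simp only [map_mul, ← mul_smul_comm, ← Finset.mul_sum]; exact I.mul_mem_left _ _ hb'⟩)
    (fun {x y} ⟨b, hb, hb'⟩ => ⟨fun i => b i * y, by simp [hb], by
      simp only [map_mul, ← smul_mul_assoc, ← Finset.sum_mul]; exact I.mul_mem_right _ _ hb'⟩)
  obtain ⟨f, hfJ, hright, hcomm⟩ := exists_central_idempotent J
  have ha0 : a 0 ∈ J := (TwoSidedIdeal.mem_mk' ..).2 ⟨a, rfl, hmem⟩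
  obtain ⟨b, hb0, hbI⟩ := (TwoSidedIdeal.mem_mk' ..).1 hfJ
  have hcen : η f ∈ Subalgebra.center L C := by
    rw [Subalgebra.mem_center_iff]
    intro x
    induction (hspan ▸ trivial : x ∈ Submodule.span L (Set.range η)) using Submodule.span_induction with
    | mem y hy => obtain ⟨y, rfl⟩ := hy; rw [← map_mul, ← map_mul, hcomm]
    | zero => simp
    | add p q _ _ hp hq => rw [add_mul, mul_add, hp, hq]
    | smul c p _ hp => rw [smul_mul_assoc, mul_smul_comm, hp]
  obtain ⟨c, hc⟩ := Algebra.IsCentral.mem_center_iff L |>.1 hcen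
  have hff : f * f = f := hright f hfJ
  have hcc : c = 0 ∨ c = 1 := by
    have h := congrArg η hff
    rw [map_mul, hc, ← map_mul] at h
    have h2 := (algebraMap L C).injective h
    rcases eq_or_ne c 0 with h0 | h0
    · exact Or.inl h0
    · exact Or.inr (mul_left_cancel₀ h0 (h2.trans (mul_one c).symm))
  have hshort : ∀ a' : Fin m → A, (∑ i, l i.succ • η (a' i)) ∈ I → (∑ i, l i.succ • η (a' i)) = 0 :=
    fun a' h => hmin m (by omega) _ _ h
  rcases hcc with rfl | rfl
  · have h0 : η (a 0) = 0 := by rw [← hright _ ha0, map_mul, hc, map_zero, mul_zero]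
    rw [Fin.sum_univ_succ, h0, smul_zero, zero_add] at hmem hne
    exact absurd (hshort _ hmem) hne
  rw [map_one] at hc
  set t := ∑ i, l i • η (b i) with ht
  have ht0 : t ≠ 0 := by
    intro h
    refine hne ?_
    have e : ∑ i, l i • η (a i) = ∑ i : Fin m, l i.succ • η (a i.succ - a 0 * b i.succ) := by
      calc ∑ i, l i • η (a i) = ∑ i, l i • η (a i) - η (a 0) * t := by rw [h, mul_zero, sub_zero]
        _ = _ := by
          rw [ht, Finset.mul_sum, ← Finset.sum_sub_distrib, Fin.sum_univ_succ]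
          simp only [mul_smul_comm, ← map_mul, ← smul_sub, ← map_sub, hb0, hright _ ha0, sub_self, map_zero,
            smul_zero, zero_add]
    rw [e] at hmem ⊢
    exact hshort _ hmem
  have htc : t ∈ Subalgebra.center L C := by
    rw [Subalgebra.mem_center_iff]
    intro x
    induction (hspan ▸ trivial : x ∈ Submodule.span L (Set.range η)) using Submodule.span_induction with
    | mem y hy =>
      obtain ⟨y, rfl⟩ := hy
      rw [← sub_eq_zero]
      have e : η y * t - t * η y = ∑ i : Fin m, l i.succ • η (y * b i.succ - b i.succ * y) := by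
        rw [ht, Finset.mul_sum, Finset.sum_mul, ← Finset.sum_sub_distrib, Fin.sum_univ_succ]
        simp only [mul_smul_comm, smul_mul_assoc, ← map_mul, ← smul_sub, ← map_sub, hb0, hcomm, sub_self, map_zero,
          smul_zero, zero_add]
      rw [e]
      exact hshort _ (e ▸ I.sub_mem (I.mul_mem_left _ _ hbI) (I.mul_mem_right _ _ hbI))
    | zero => simp
    | add p q _ _ hp hq => rw [add_mul, mul_add, hp, hq]
    | smul c p _ hp => rw [smul_mul_assoc, mul_smul_comm, hp]
  obtain ⟨r, hr⟩ := Algebra.IsCentral.mem_center_iff L |>.1 htc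
  have hr0 : r ≠ 0 := fun h => ht0 (by rw [hr, h, map_zero])
  rw [← I.one_mem_iff]
  have := hsm r⁻¹ t hbI
  rwa [hr, Algebra.smul_def, ← map_mul, inv_mul_cancel₀ hr0, map_one] at this

/-- Finite central simple algebras over a separably closed field are matrix algebras. -/
theorem exists_algEquiv_matrix {L : Type w} [Field L] [IsSepClosed L] (C : Type v) [Ring C] [Algebra L C]
    [Module.Finite L C] [IsSimpleRing C] [Algebra.IsCentral L C] :
    ∃ m : ℕ, Nonempty (C ≃ₐ[L] Matrix (Fin m) (Fin m) L) := by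
  haveI : IsArtinianRing C := IsArtinianRing.of_finite L C
  obtain ⟨m, hm, D, _, _, _, ⟨e⟩⟩ := IsSimpleRing.exists_algEquiv_matrix_divisionRing_finite L C
  haveI := Algebra.IsCentral.of_algEquiv L _ _ e
  haveI : Algebra.IsCentral L D := by
    refine ⟨fun x hx => ?_⟩
    have h1 : (Matrix.scalar (Fin m) x) ∈ Subalgebra.center L (Matrix (Fin m) (Fin m) D) := by
      rw [Subalgebra.mem_center_iff]
      intro M
      exact (Matrix.scalar_commute x (fun r => (Subalgebra.mem_center_iff.1 hx r).symm) M).eq.symm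
    obtain ⟨r, hr⟩ := Algebra.IsCentral.mem_center_iff L |>.1 h1
    refine Algebra.mem_bot.2 ⟨r, ?_⟩
    have := congr_fun (congr_fun hr ⟨0, Nat.pos_of_ne_zero hm.out⟩) ⟨0, Nat.pos_of_ne_zero hm.out⟩
    simpa [Matrix.algebraMap_matrix_apply] using this.symm
  have hD : (⊥ : Subalgebra L D) = ⊤ := by
    by_contra hne
    haveI : Algebra.IsAlgebraic L D := Algebra.IsAlgebraic.of_finite L D
    obtain ⟨x, hx, hsep⟩ := JacobsonNoether.exists_separable_and_not_isCentral' hne
    refine hx (Algebra.mem_bot.2 ?_)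
    have hint : IsIntegral L x := hsep.isIntegral
    have hdeg := IsSepClosed.degree_eq_one_of_irreducible L (minpoly.irreducible hint) hsep
    exact minpoly.mem_range_of_degree_eq_one L x hdeg
  let f : L ≃ₐ[L] D := AlgEquiv.ofBijective (Algebra.ofId L D) ⟨(algebraMap L D).injective, fun x =>
    Algebra.mem_bot.1 (hD ▸ trivial : x ∈ (⊥ : Subalgebra L D))⟩
  exact ⟨m, ⟨e.trans f.symm.mapMatrix⟩⟩

end Groth.Agent.CSADescent
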