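import Mathlib
import Groth.Agent.CSADescent.SepClosed

/-!
# Tensor products with central simple algebras and the Skolem–Noether theorem
-/

open scoped TensorProduct

namespace Groth.Agent.CSADescent

universe u v w

section

variable {k : Type u} [Field k] {A : Type v} [Ring A] [Algebra k A] [Algebra.IsCentral k A] [IsSimpleRing A]

/-- A nonzero two-sided ideal of `A ⊗ C` with `A` central simple meets `1 ⊗ C`. -/
theorem exists_one_tmul_mem {C : Type w} [Ring C] [Algebra k C] (I : TwoSidedIdeal (A ⊗[k] C)) (hI : I ≠ ⊥) :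
    ∃ c : C, c ≠ 0 ∧ (1 : A) ⊗ₜ[k] c ∈ I := by
  classical
  let b := Module.Free.chooseBasis k C
  let E := TensorProduct.equivFinsuppOfBasisRight (M := A) b
  have hl : ∀ (x : A) (v : A ⊗[k] C) i, E ((x ⊗ₜ[k] (1 : C)) * v) i = x * E v i ∧
      E (v * (x ⊗ₜ[k] (1 : C))) i = E v i * x := fun x v i => by
    induction v using TensorProduct.induction_on with
    | zero => simp
    | tmul a c =>
      rw [Algebra.TensorProduct.tmul_mul_tmul, Algebra.TensorProduct.tmul_mul_tmul, one_mul, mul_one]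
      simp [E, mul_smul_comm, smul_mul_assoc]
    | add p q hp hq => simp [mul_add, add_mul, hp.1, hp.2, hq.1, hq.2]
  have hex : ∃ n, ∃ t ∈ I, t ≠ 0 ∧ (E t).support.card = n := by
    obtain ⟨t, ht, ht0⟩ : ∃ t ∈ I, t ≠ 0 := by
      by_contra hcon
      push Not at hcon
      refine hI (SetLike.ext fun y => ?_)
      rw [TwoSidedIdeal.mem_bot]
      exact ⟨hcon y, fun e => e ▸ I.zero_mem⟩
    exact ⟨_, t, ht, ht0, rfl⟩
  obtain ⟨t, ht, ht0, hcard⟩ := Nat.find_spec hex
  have hmin : ∀ v ∈ I, (E v).support.card < (E t).support.card → v = 0 := fun v hv hlt =>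
    by_contra fun h => Nat.find_min hex (hcard ▸ hlt) ⟨v, hv, h, rfl⟩
  obtain ⟨i₀, hi₀⟩ : (E t).support.Nonempty := by
    rw [Finsupp.support_nonempty_iff]
    exact fun h => ht0 (E.injective (h.trans (map_zero E).symm))
  let P : Set A := {a | ∃ v ∈ I, (E v).support ⊆ (E t).support ∧ E v i₀ = a}
  let J : TwoSidedIdeal A := TwoSidedIdeal.mk' P ⟨0, I.zero_mem, by simp, by simp⟩
    (fun {x y} ⟨v, hv, hs, hx⟩ ⟨w, hw, hs', hy⟩ => ⟨v + w, I.add_mem hv hw, by
      rw [map_add]; exact Finsupp.support_add.trans (Finset.union_subset hs hs'), by simp [hx, hy]⟩)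
    (fun {x} ⟨v, hv, hs, hx⟩ => ⟨-v, I.neg_mem hv, by rw [map_neg, Finsupp.support_neg]; exact hs, by simp [hx]⟩)
    (fun {x y} ⟨v, hv, hs, hx⟩ => ⟨(x ⊗ₜ[k] (1 : C)) * v, I.mul_mem_left _ _ hv, fun i hi => hs (by
      rw [Finsupp.mem_support_iff, (hl x v i).1] at hi
      rw [Finsupp.mem_support_iff]
      exact fun h => hi (by rw [h, mul_zero])), by rw [(hl x v i₀).1, hx]⟩)
    (fun {x y} ⟨v, hv, hs, hx⟩ => ⟨v * (y ⊗ₜ[k] (1 : C)), I.mul_mem_right _ _ hv, fun i hi => hs (by
      rw [Finsupp.mem_support_iff, (hl y v i).2] at hi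
      rw [Finsupp.mem_support_iff]
      exact fun h => hi (by rw [h, zero_mul])), by rw [(hl y v i₀).2, hx]⟩)
  have hJ : J = ⊤ := by
    rcases eq_bot_or_eq_top J with h | h
    · have : E t i₀ ∈ J := (TwoSidedIdeal.mem_mk' ..).2 ⟨t, ht, subset_rfl, rfl⟩
      rw [h, TwoSidedIdeal.mem_bot] at this
      exact absurd this (Finsupp.mem_support_iff.1 hi₀)
    · exact h
  obtain ⟨v, hv, hs, hv1⟩ := (TwoSidedIdeal.mem_mk' P _ _ _ _ _ 1).1 (show (1 : A) ∈ J by rw [hJ]; trivial)
  haveI : Nontrivial A := inferInstance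
  have hcomm : ∀ (x : A) i, x * E v i = E v i * x := by
    intro x i
    have hz : (x ⊗ₜ[k] (1 : C)) * v - v * (x ⊗ₜ[k] (1 : C)) = 0 := by
      refine hmin _ (I.sub_mem (I.mul_mem_left _ _ hv) (I.mul_mem_right _ _ hv)) (Finset.card_lt_card ?_)
      refine Finset.ssubset_iff_of_subset (fun j hj => hs ?_) |>.2 ⟨i₀, hi₀, ?_⟩
      · rw [Finsupp.mem_support_iff, map_sub, Finsupp.sub_apply, (hl x v j).1, (hl x v j).2] at hj
        rw [Finsupp.mem_support_iff]
        exact fun h => hj (by rw [h, mul_zero, zero_mul, sub_zero])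
      · rw [Finsupp.mem_support_iff, map_sub, Finsupp.sub_apply, (hl x v i₀).1, (hl x v i₀).2, hv1, mul_one, one_mul,
          sub_self, ne_eq, not_not]
    have := congrArg (fun v => E v i) hz
    rwa [map_sub, Finsupp.sub_apply, (hl x v i).1, (hl x v i).2, map_zero, Finsupp.zero_apply, sub_eq_zero] at this
  choose r hr using fun i => (Algebra.IsCentral.mem_center_iff k).1
    (Subalgebra.mem_center_iff.2 fun x => hcomm x i : E v i ∈ Subalgebra.center k A)
  have hveq : v = (1 : A) ⊗ₜ[k] ∑ i ∈ (E v).support, r i • b i := by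
    conv_lhs => rw [← E.symm_apply_apply v, TensorProduct.equivFinsuppOfBasisRight_symm_apply]
    rw [TensorProduct.tmul_sum]
    refine Finset.sum_congr rfl fun i _ => ?_
    rw [hr, Algebra.algebraMap_eq_smul_one]
    exact TensorProduct.smul_tmul (r i) 1 (b i)
  refine ⟨_, fun h => ?_, hveq ▸ hv⟩
  rw [h, TensorProduct.tmul_zero] at hveq
  rw [hveq, map_zero, Finsupp.zero_apply] at hv1
  exact zero_ne_one hv1

/-- The tensor product with a central simple algebra of a simple algebra is simple. -/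
theorem isSimpleRing_tensor {C : Type w} [Ring C] [Algebra k C] [IsSimpleRing C] : IsSimpleRing (A ⊗[k] C) := by
  haveI : Nontrivial (A ⊗[k] C) :=
    (Algebra.TensorProduct.includeLeft_injective (S := k) (algebraMap k C).injective).nontrivial
  refine IsSimpleRing.of_eq_bot_or_eq_top fun I => or_iff_not_imp_left.2 fun hI => ?_
  obtain ⟨c, hc, hcI⟩ := exists_one_tmul_mem I hI
  let P : Set C := {c | (1 : A) ⊗ₜ[k] c ∈ I}
  let J : TwoSidedIdeal C := TwoSidedIdeal.mk' P (by simp [P, I.zero_mem])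
    (fun hx hy => by show _ ∈ I; rw [TensorProduct.tmul_add]; exact I.add_mem hx hy)
    (fun hx => by show _ ∈ I; rw [TensorProduct.tmul_neg]; exact I.neg_mem hx)
    (fun {x y} hy => by
      show _ ∈ I
      rw [← mul_one (1 : A), ← Algebra.TensorProduct.tmul_mul_tmul]; exact I.mul_mem_left _ _ hy)
    (fun {x y} hx => by
      show _ ∈ I
      rw [← mul_one (1 : A), ← Algebra.TensorProduct.tmul_mul_tmul]; exact I.mul_mem_right _ _ hx)
  rcases eq_bot_or_eq_top J with h | h
  · have : c ∈ J := (TwoSidedIdeal.mem_mk' P _ _ _ _ _ c).2 hcI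
    rw [h, TwoSidedIdeal.mem_bot] at this
    exact absurd this hc
  · rw [← I.one_mem_iff, Algebra.TensorProduct.one_def]
    exact (TwoSidedIdeal.mem_mk' P _ _ _ _ _ 1).1 (show (1 : C) ∈ J by rw [h]; trivial)

variable [FiniteDimensional k A]

theorem mulLeftRight_bijective : Function.Bijective (AlgHom.mulLeftRight k A) := by
  have hinj : Function.Injective (AlgHom.mulLeftRight k A) := by
    rw [injective_iff_map_eq_zero]
    intro t ht
    by_contra ht0
    let P : Set (A ⊗[k] Aᵐᵒᵖ) := {t | AlgHom.mulLeftRight k A t = 0}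
    let I : TwoSidedIdeal (A ⊗[k] Aᵐᵒᵖ) := TwoSidedIdeal.mk' P (map_zero _)
      (fun hx hy => by show AlgHom.mulLeftRight k A _ = 0; rw [map_add, hx, hy, add_zero])
      (fun hx => by show AlgHom.mulLeftRight k A _ = 0; rw [map_neg, hx, neg_zero])
      (fun hy => by show AlgHom.mulLeftRight k A _ = 0; rw [map_mul, hy, mul_zero])
      (fun hx => by show AlgHom.mulLeftRight k A _ = 0; rw [map_mul, hx, zero_mul])
    have hI : I ≠ ⊥ := fun h => ht0 (by
      have : t ∈ I := (TwoSidedIdeal.mem_mk' P _ _ _ _ _ t).2 ht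
      rwa [h, TwoSidedIdeal.mem_bot] at this)
    obtain ⟨c, hc, hcI⟩ := exists_one_tmul_mem I hI
    have := LinearMap.congr_fun ((TwoSidedIdeal.mem_mk' P _ _ _ _ _ _).1 hcI : AlgHom.mulLeftRight k A _ = 0) 1
    simp at this
    exact hc this
  haveI : Module.Finite k Aᵐᵒᵖ := Module.Finite.equiv (MulOpposite.opLinearEquiv k : A ≃ₗ[k] Aᵐᵒᵖ)
  exact ⟨hinj, (LinearMap.injective_iff_surjective_of_finrank_eq_finrank
    (f := (AlgHom.mulLeftRight k A).toLinearMap) (by
      rw [Module.finrank_tensorProduct, Module.finrank_linearMap, ← (MulOpposite.opLinearEquiv k : A ≃ₗ[k] Aᵐᵒᵖ).finrank_eq])).1 hinj⟩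

/-- The Skolem–Noether theorem for automorphisms. -/
theorem exists_unit_conj (φ : A →ₐ[k] A) : ∃ u : Aˣ, ∀ a, φ a = (u : A) * a * (u⁻¹ : Aˣ) := by
  let μ : A ⊗[k] Aᵐᵒᵖ ≃ₐ[k] Module.End k A := AlgEquiv.ofBijective _ mulLeftRight_bijective
  let μ' : A ⊗[k] Aᵐᵒᵖ →ₐ[k] Module.End k A :=
    (AlgHom.mulLeftRight k A).comp (Algebra.TensorProduct.map φ (AlgHom.id k Aᵐᵒᵖ))
  let ψ : Module.End k A →ₐ[k] Module.End k A := μ'.comp μ.symm.toAlgHom
  haveI : IsSimpleRing Aᵐᵒᵖ := inferInstance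
  have hinj : Function.Injective ψ := by
    haveI := isSimpleRing_tensor (k := k) (A := A) (C := Aᵐᵒᵖ)
    haveI : Nontrivial (Module.End k A) := inferInstance
    exact (μ'.toRingHom.injective).comp μ.symm.injective
  have hbij : Function.Bijective ψ :=
    ⟨hinj, LinearMap.surjective_of_injective (f := ψ.toLinearMap) hinj⟩
  obtain ⟨T, hT⟩ := AlgEquiv.eq_linearEquivConjAlgEquiv (AlgEquiv.ofBijective ψ hbij)
  have key : ∀ (a b x : A), φ a * T x * b = T (a * x * b) := fun a b x => by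
    have h := LinearMap.congr_fun (DFunLike.congr_fun hT (μ (a ⊗ₜ[k] MulOpposite.op b))) (T x)
    rw [AlgEquiv.ofBijective_apply] at h
    have hψ : ψ (μ (a ⊗ₜ[k] MulOpposite.op b)) = μ' (a ⊗ₜ[k] MulOpposite.op b) :=
      congrArg μ' (μ.symm_apply_apply _)
    rw [hψ, LinearEquiv.conjAlgEquiv_apply, LinearMap.comp_apply, LinearMap.comp_apply, LinearEquiv.coe_coe,
      LinearEquiv.coe_coe, LinearEquiv.symm_apply_apply] at h
    simpa [μ', μ] using h
  obtain ⟨y, hy⟩ := T.surjective 1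
  have h1 : T 1 * y = 1 := by
    have := key 1 y 1
    rwa [map_one, one_mul, one_mul, one_mul, hy] at this
  haveI : IsArtinianRing A := IsArtinianRing.of_finite k A
  have h2 : y * T 1 = 1 := mul_eq_one_comm.1 h1
  refine ⟨⟨T 1, y, h1, h2⟩, fun a => ?_⟩
  show φ a = T 1 * a * y
  have e1 := key a 1 1
  have e2 := key 1 a 1
  simp only [map_one, one_mul, mul_one] at e1 e2
  rw [e2, ← e1, mul_assoc, h1, mul_one]

end

end Groth.Agent.CSADescent
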