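import Mathlib
import Groth.Prelude.Def_GSzCSA
import Groth.Prelude.Def_GSzH1

/-!
# Galois descent for algebras split by a finite Galois extension

Semilinear descent, fixed points of a base change, inner automorphisms of matrix algebras.
-/

open scoped TensorProduct MatrixGroups

attribute [local instance] CSAGal.matrixAction GpH1.unitsAction CSAGal.pglAction CSAGal.tensorAction

namespace Groth.Agent.CSADescent

universe u v w

/-- Automorphisms of a matrix algebra over a field are inner. -/
theorem exists_conj {K : Type*} [Field K] {n : Type*} [Fintype n] [DecidableEq n]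
    (ψ : Matrix n n K ≃ₐ[K] Matrix n n K) :
    ∃ g : GL n K, ∀ M, ψ M = (g : Matrix n n K) * M * ((g⁻¹ : GL n K) : Matrix n n K) := by
  obtain ⟨T, hT⟩ := AlgEquiv.eq_linearEquivConjAlgEquiv
    ((Matrix.toLinAlgEquiv'.symm.trans ψ).trans Matrix.toLinAlgEquiv')
  let e : Matrix n n K ≃ₐ[K] Module.End K (n → K) := Matrix.toLinAlgEquiv'
  let u : (Module.End K (n → K))ˣ :=
    ⟨T.toLinearMap, T.symm.toLinearMap, LinearMap.ext fun x => T.apply_symm_apply x,
      LinearMap.ext fun x => T.symm_apply_apply x⟩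
  refine ⟨Units.map (e.symm : Module.End K (n → K) →* Matrix n n K) u, fun M => ?_⟩
  apply e.injective
  have h := DFunLike.congr_fun hT (e M)
  simp only [AlgEquiv.trans_apply, e, AlgEquiv.symm_apply_apply] at h
  show e (ψ M) = e (e.symm T.toLinearMap * M * e.symm T.symm.toLinearMap)
  rw [map_mul, map_mul, e.apply_symm_apply, e.apply_symm_apply]
  refine h.trans ?_
  refine LinearMap.ext fun x => ?_
  rfl

variable {n : Type w} [Fintype n] [DecidableEq n]

/-- Conjugations agree only for proportional matrices. -/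
theorem mk_eq_mk_of_conj {R : Type*} [CommRing R] {g h : GL n R}
    (H : ∀ M : Matrix n n R, (g : Matrix n n R) * M * ((g⁻¹ : GL n R) : Matrix n n R) =
      (h : Matrix n n R) * M * ((h⁻¹ : GL n R) : Matrix n n R)) :
    Matrix.ProjGenLinGroup.mk g = Matrix.ProjGenLinGroup.mk h := by
  rw [Matrix.ProjGenLinGroup.mk_eq_mk_iff']
  refine ⟨g⁻¹ * h, Subgroup.mem_center_iff.2 fun x => ?_, mul_inv_cancel_left g h⟩
  refine Units.ext ?_
  have e := H x
  simp only [Units.val_mul]
  calc (x : Matrix n n R) * ((g⁻¹ : GL n R) * (h : Matrix n n R))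
      = (g⁻¹ : GL n R) * ((g : Matrix n n R) * x * (g⁻¹ : GL n R)) * h := by
        simp [mul_assoc]
    _ = (g⁻¹ : GL n R) * ((h : Matrix n n R) * x * (h⁻¹ : GL n R)) * h := by rw [e]
    _ = (g⁻¹ : GL n R) * (h : Matrix n n R) * x := by simp [mul_assoc]

theorem conj_eq_of_mk_eq {R : Type*} [CommRing R] {g h : GL n R}
    (H : Matrix.ProjGenLinGroup.mk g = Matrix.ProjGenLinGroup.mk h) (M : Matrix n n R) :
    (g : Matrix n n R) * M * ((g⁻¹ : GL n R) : Matrix n n R) =
      (h : Matrix n n R) * M * ((h⁻¹ : GL n R) : Matrix n n R) := by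
  obtain ⟨u, rfl⟩ := Matrix.ProjGenLinGroup.mk_eq_mk_iff.1 H
  have hc : ∀ N : Matrix n n R, ((Matrix.GeneralLinearGroup.scalar n u : GL n R) : Matrix n n R) * N =
      N * ((Matrix.GeneralLinearGroup.scalar n u : GL n R) : Matrix n n R) := fun N =>
    (Matrix.scalar_commute (u : R) (fun r => mul_comm _ r) N).eq
  rw [mul_inv_rev, Units.val_mul, Units.val_mul, mul_assoc (g : Matrix n n R) _ M, hc M]
  simp only [mul_assoc, Units.mul_inv_cancel_left]

variable {k : Type u} [Field k] {K : Type v} [Field K] [Algebra k K]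

theorem smul_mk (σ : K ≃ₐ[k] K) (g : GL n K) :
    σ • Matrix.ProjGenLinGroup.mk g = Matrix.ProjGenLinGroup.mk (σ • g) := rfl

theorem smul_val (σ : K ≃ₐ[k] K) (g : GL n K) : ((σ • g : GL n K) : Matrix n n K) = σ • (g : Matrix n n K) := rfl

theorem smul_smul_matrix (σ : K ≃ₐ[k] K) (x : K) (M : Matrix n n K) : σ • (x • M) = σ x • (σ • M) := by
  ext i j
  show σ (x * M i j) = σ x * σ (M i j)
  rw [map_mul]

theorem smul_tmul_one {A : Type*} [Ring A] [Algebra k A] (σ : K ≃ₐ[k] K) (x : K) (a : A) :
    σ • (x ⊗ₜ[k] a) = σ x ⊗ₜ[k] a := rfl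

variable [FiniteDimensional k K] [IsGalois k K]

theorem eq_zero_of_sum_mul (a : (K ≃ₐ[k] K) → K) (h : ∀ y : K, ∑ σ, a σ * σ y = 0) : a = 0 := by
  have hli : LinearIndependent K fun σ : K ≃ₐ[k] K => (⇑(σ.toRingEquiv.toRingHom.toMonoidHom) : K → K) :=
    (linearIndependent_monoidHom K K).comp (fun σ : K ≃ₐ[k] K => σ.toRingEquiv.toRingHom.toMonoidHom)
      fun σ τ e => AlgEquiv.ext fun x => DFunLike.congr_fun e x
  funext σ
  refine Fintype.linearIndependent_iff.1 hli a (funext fun y => ?_) σ
  simpa using h y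

theorem mem_range_of_fixed (x : K) (h : ∀ σ : K ≃ₐ[k] K, σ x = x) : x ∈ Set.range (algebraMap k K) :=
  (IsGalois.mem_range_algebraMap_iff_fixed x).2 h

section Semilinear

variable {V : Type*} [AddCommGroup V] [Module k V] [Module K V] [IsScalarTower k K V]
  (T : (K ≃ₐ[k] K) → V →+ V) (hsemi : ∀ σ (x : K) v, T σ (x • v) = σ x • T σ v)
  (hmul : ∀ σ τ v, T (σ * τ) v = T σ (T τ v))

include hsemi hmul in
/-- Fixed vectors span. -/
theorem span_fixed_eq_top (hone : ∀ v, T 1 v = v) :
    Submodule.span K {v : V | ∀ σ, T σ v = v} = ⊤ := by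
  classical
  refine eq_top_iff.2 fun v _ => ?_
  let b := Module.finBasis k K
  let r : Fin (Module.finrank k K) → ((K ≃ₐ[k] K) → K) := fun j σ => σ (b j)
  have hr : Submodule.span K (Set.range r) = ⊤ := by
    by_contra hne
    obtain ⟨f, hf0, hf⟩ := Submodule.exists_le_ker_of_lt_top _ (lt_top_iff_ne_top.2 hne)
    refine hf0 ?_
    have hz := eq_zero_of_sum_mul (fun σ => f (Pi.single σ 1)) fun y => ?_
    · refine LinearMap.pi_ext' fun σ => LinearMap.ext_ring ?_
      simpa using congr_fun hz σ
    · have hb : ∀ j, ∑ σ, f (Pi.single σ 1) * σ (b j) = 0 := fun j => by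
        have h0 : f (r j) = 0 := hf (Submodule.subset_span ⟨j, rfl⟩)
        rw [← h0]
        conv_rhs => rw [pi_eq_sum_univ' (r j), map_sum]
        refine Finset.sum_congr rfl fun σ _ => ?_
        rw [map_smul, smul_eq_mul, mul_comm]
      rw [← b.sum_repr y]
      simp only [map_sum, map_smul, Finset.mul_sum, mul_smul_comm]
      rw [Finset.sum_comm]
      simp only [← Finset.smul_sum, hb, smul_zero, Finset.sum_const_zero]
  obtain ⟨c, hc⟩ := (Submodule.mem_span_range_iff_exists_fun K).1 (hr ▸ trivial : Pi.single 1 1 ∈ Submodule.span K (Set.range r))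
  have hfix : ∀ j, (∑ σ, σ (b j) • T σ v) ∈ Submodule.span K {v : V | ∀ σ, T σ v = v} := fun j => by
    refine Submodule.subset_span fun τ => ?_
    rw [map_sum, ← Equiv.sum_comp (Equiv.mulLeft τ) fun σ => σ (b j) • T σ v]
    refine Finset.sum_congr rfl fun σ _ => ?_
    rw [hsemi, Equiv.coe_mulLeft, hmul]
    rfl
  have e : v = ∑ j, c j • ∑ σ, σ (b j) • T σ v := by
    simp only [Finset.smul_sum, smul_smul]
    rw [Finset.sum_comm]
    simp only [← Finset.sum_smul]
    have h1 : ∀ σ, ∑ j, c j * σ (b j) = (Pi.single 1 1 : (K ≃ₐ[k] K) → K) σ := fun σ => by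
      rw [← hc, Finset.sum_apply]
      rfl
    simp only [h1]
    rw [Finset.sum_eq_single 1 (fun σ _ hσ => by rw [Pi.single_eq_of_ne hσ, zero_smul])
      (fun h => absurd (Finset.mem_univ _) h), Pi.single_eq_same, one_smul, hone]
  rw [e]
  exact Submodule.sum_mem _ fun j _ => Submodule.smul_mem _ _ (hfix j)

include hsemi in
/-- Fixed vectors independent over the small field are independent over the large one. -/
theorem linearIndependent_of_fixed {ι : Type*} (b : ι → V) (hb : ∀ i σ, T σ (b i) = b i)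
    (hli : LinearIndependent k b) : LinearIndependent K b := by
  classical
  rw [linearIndependent_iff'] at hli ⊢
  intro s g hg i hi
  have htr : ∀ y, ∑ σ : K ≃ₐ[k] K, σ (y * g i) = 0 := by
    intro y
    have ht : ∀ j, ∃ c : k, algebraMap k K c = ∑ σ : K ≃ₐ[k] K, σ (y * g j) := fun j =>
      mem_range_of_fixed _ fun τ => by
        rw [map_sum]
        exact Fintype.sum_equiv (Equiv.mulLeft τ) _ _ fun σ => rfl
    choose c hc using ht
    have h0 : ∑ j ∈ s, c j • b j = 0 := by
      simp only [← IsScalarTower.algebraMap_smul K (c _) (b _), hc, Finset.sum_smul]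
      rw [Finset.sum_comm]
      refine Finset.sum_eq_zero fun σ _ => ?_
      have := congrArg (T σ) (congrArg (y • ·) hg)
      simp only [Finset.smul_sum, smul_smul, map_sum, smul_zero, map_zero, hsemi, hb] at this
      exact this
    rw [← hc, hli s c h0 i hi, map_zero]
  have := eq_zero_of_sum_mul (fun σ : K ≃ₐ[k] K => σ (g i)) fun y => by
    rw [← htr y]
    exact Finset.sum_congr rfl fun σ _ => by rw [map_mul, mul_comm]
  simpa using congr_fun this 1

end Semilinear

/-- Invariants of a base change. -/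
theorem exists_eq_one_tmul_of_fixed {A : Type*} [Ring A] [Algebra k A] (t : K ⊗[k] A)
    (h : ∀ σ : K ≃ₐ[k] K, σ • t = t) : ∃ a : A, t = 1 ⊗ₜ a := by
  classical
  let bA := Module.Free.chooseBasis k A
  let B := Algebra.TensorProduct.basis K bA
  have hB : ∀ (σ : K ≃ₐ[k] K) (t : K ⊗[k] A) i, B.repr (σ • t) i = σ (B.repr t i) := fun σ t i => by
    induction t using TensorProduct.induction_on with
    | zero => simp
    | tmul x a => rw [smul_tmul_one]; simp [B]
    | add x y hx hy => simp [smul_add, hx, hy]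
  choose c hc using fun i => mem_range_of_fixed (B.repr t i) fun σ => by rw [← hB, h σ]
  refine ⟨∑ i ∈ (B.repr t).support, c i • bA i, ?_⟩
  conv_lhs => rw [← B.linearCombination_repr t, Finsupp.linearCombination_apply, Finsupp.sum]
  rw [TensorProduct.tmul_sum]
  refine Finset.sum_congr rfl fun i _ => ?_
  rw [Algebra.TensorProduct.basis_apply, TensorProduct.tmul_smul, ← hc, IsScalarTower.algebraMap_smul]

/-- An equivariant isomorphism of base changes descends. -/
theorem nonempty_algEquiv_of_equivariant {A A' : Type*} [Ring A] [Algebra k A] [Ring A'] [Algebra k A']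
    (e : K ⊗[k] A ≃ₐ[K] K ⊗[k] A') (he : ∀ (σ : K ≃ₐ[k] K) t, e (σ • t) = σ • e t) :
    Nonempty (A ≃ₐ[k] A') := by
  have h1 : ∀ (σ : K ≃ₐ[k] K) (a : A), σ • ((1 : K) ⊗ₜ[k] a) = 1 ⊗ₜ a := fun σ a => by rw [smul_tmul_one, map_one]
  have h1' : ∀ (σ : K ≃ₐ[k] K) (a : A'), σ • ((1 : K) ⊗ₜ[k] a) = 1 ⊗ₜ a := fun σ a => by rw [smul_tmul_one, map_one]
  choose f hf using fun a : A => exists_eq_one_tmul_of_fixed (e ((1 : K) ⊗ₜ[k] a)) fun σ => by rw [← he, h1]
  choose g hg using fun a : A' => exists_eq_one_tmul_of_fixed (e.symm ((1 : K) ⊗ₜ[k] a)) fun σ =>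
    e.injective (by rw [he, e.apply_symm_apply, h1'])
  have inj : Function.Injective ((Algebra.TensorProduct.includeRight : A →ₐ[k] K ⊗[k] A)) :=
    Algebra.TensorProduct.includeRight_injective (algebraMap k K).injective
  have inj' : Function.Injective ((Algebra.TensorProduct.includeRight : A' →ₐ[k] K ⊗[k] A')) :=
    Algebra.TensorProduct.includeRight_injective (algebraMap k K).injective
  let φ : A →ₐ[k] A' :=
    { toFun := f
      map_one' := inj' (by
        simp only [Algebra.TensorProduct.includeRight_apply]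
        rw [← hf, ← Algebra.TensorProduct.one_def, map_one, Algebra.TensorProduct.one_def])
      map_mul' := fun a b => inj' (by
        simp only [Algebra.TensorProduct.includeRight_apply]
        rw [← hf, ← mul_one (1 : K), ← Algebra.TensorProduct.tmul_mul_tmul, ← Algebra.TensorProduct.tmul_mul_tmul,
          map_mul, hf, hf])
      map_zero' := inj' (by
        simp only [Algebra.TensorProduct.includeRight_apply]
        rw [← hf, TensorProduct.tmul_zero, TensorProduct.tmul_zero, map_zero])
      map_add' := fun a b => inj' (by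
        simp only [Algebra.TensorProduct.includeRight_apply]
        rw [← hf, TensorProduct.tmul_add, TensorProduct.tmul_add, map_add, hf, hf])
      commutes' := fun c => inj' (by
        simp only [Algebra.TensorProduct.includeRight_apply]
        rw [← hf, Algebra.algebraMap_eq_smul_one, Algebra.algebraMap_eq_smul_one, TensorProduct.tmul_smul,
          TensorProduct.tmul_smul, ← IsScalarTower.algebraMap_smul K c ((1 : K) ⊗ₜ[k] (1 : A)), map_smul,
          ← Algebra.TensorProduct.one_def, map_one, Algebra.TensorProduct.one_def, IsScalarTower.algebraMap_smul]) }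
  refine ⟨AlgEquiv.ofBijective φ ⟨fun a b hab => inj (e.injective ?_), fun a' => ⟨g a', inj' ?_⟩⟩⟩
  · simp only [Algebra.TensorProduct.includeRight_apply]
    rw [hf, hf]
    exact congrArg _ hab
  · simp only [Algebra.TensorProduct.includeRight_apply]
    show (1 : K) ⊗ₜ[k] f (g a') = _
    rw [← hf, ← hg, e.apply_symm_apply]

end Groth.Agent.CSADescent
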